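import Mathlib.RingTheory.Flat.Basic
import Mathlib.RingTheory.IsTensorProduct
import Mathlib.RingTheory.LocalRing.ResidueField.Basic
import Mathlib.LinearAlgebra.Dimension.Constructions
import Mathlib.LinearAlgebra.Dimension.Free
import Mathlib.LinearAlgebra.TensorProduct.Quotient
import Mathlib.LinearAlgebra.TensorProduct.Tower
import Mathlib.RingTheory.Finiteness.Defs
import Mathlib.RingTheory.Ideal.Maximal
import Mathlib.LinearAlgebra.FreeModule.Basic
import Mathlib.LinearAlgebra.Basis.VectorSpace

/-!
# Algebra for descent of "locally generated by at most `r` sections" (helper3)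

* `finite_of_flat_family'`: finiteness of a module descends along a finite family of flat algebras
  which is jointly surjective on prime spectra.
* `finrank_residue_isBaseChange`: the fibre rank at the closed point is invariant under base change
  along a local homomorphism of local rings.
* `finrank_tensor_le_card`: the fibre rank is bounded by the number of generators.
-/

set_option autoImplicit false
universe u
open TensorProduct

namespace Groth.Agent.H3.LocGen

/-- descent of module finiteness along a finite, jointly surjective (on primes) family of flat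
algebras. -/
theorem finite_of_flat_family' {A : Type u} [CommRing A] {M : Type u} [AddCommGroup M] [Module A M]
    {J : Type} [Finite J] (B : J → Type u) [∀ j, CommRing (B j)] [∀ j, Algebra A (B j)]
    [∀ j, Module.Flat A (B j)]
    (hsurj : ∀ p : Ideal A, p.IsPrime →
      ∃ (j : J) (q : Ideal (B j)), q.IsPrime ∧ q.comap (algebraMap A (B j)) = p)
    (hfin : ∀ j, Module.Finite (B j) (B j ⊗[A] M)) : Module.Finite A M := by
  classical
  cases nonempty_fintype J
  have h1 : ∀ j, ∃ t : Finset M,
      Submodule.span (B j) ((TensorProduct.mk A (B j) M 1) '' (t : Set M)) = ⊤ := by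
    intro j
    have hrange : Submodule.span (B j) (Set.range (TensorProduct.mk A (B j) M 1)) = ⊤ := by
      rw [eq_top_iff]
      rintro x -
      induction x using TensorProduct.induction_on with
      | zero => exact zero_mem _
      | tmul b m =>
        have hb : b ⊗ₜ[A] m = b • (TensorProduct.mk A (B j) M 1 m) := by
          rw [TensorProduct.mk_apply, TensorProduct.smul_tmul', smul_eq_mul, mul_one]
        rw [hb]
        exact Submodule.smul_mem _ _ (Submodule.subset_span ⟨m, rfl⟩)
      | add x y hx hy => exact add_mem hx hy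
    have hfg : (Submodule.span (B j) (Set.range (TensorProduct.mk A (B j) M 1))).FG := by
      rw [hrange]; exact (hfin j).fg_top
    obtain ⟨t', ht'sub, ht'⟩ := (Submodule.fg_span_iff_fg_span_finset_subset _).mp hfg
    rw [← Set.image_univ] at ht'sub
    obtain ⟨t, -, rfl⟩ := Finset.subset_set_image_iff.mp ht'sub
    refine ⟨t, ?_⟩
    rw [← hrange, ht', Finset.coe_image]
  choose t ht using h1
  let T : Finset M := Finset.univ.biUnion t
  have hT : ∀ j, ∀ m₀ ∈ t j, m₀ ∈ Submodule.span A (T : Set M) := fun j m₀ hm₀ =>
    Submodule.subset_span (Finset.mem_coe.mpr (Finset.mem_biUnion.mpr ⟨j, Finset.mem_univ j, hm₀⟩))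
  have hM' : Submodule.span A (T : Set M) = ⊤ := by
    by_contra hne
    obtain ⟨x, hx⟩ : ∃ x : M, x ∉ Submodule.span A (T : Set M) := by
      by_contra hcon
      push Not at hcon
      exact hne (eq_top_iff.mpr fun y _ => hcon y)
    obtain ⟨M', hM'def⟩ : ∃ M' : Submodule A M, M' = Submodule.span A (T : Set M) := ⟨_, rfl⟩
    rw [← hM'def] at hx
    have hy : M'.mkQ x ≠ 0 := fun h0 => hx ((Submodule.Quotient.mk_eq_zero M').mp h0)
    obtain ⟨I, hIdef⟩ : ∃ I : Ideal A,
      I = LinearMap.ker (LinearMap.toSpanSingleton A (M ⧸ M') (M'.mkQ x)) := ⟨_, rfl⟩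
    have hI : I ≠ ⊤ := by
      intro hI
      have h1 : (1 : A) ∈ I := by rw [hI]; trivial
      rw [hIdef, LinearMap.mem_ker, LinearMap.toSpanSingleton_apply, one_smul] at h1
      exact hy h1
    obtain ⟨m, hm, hIm⟩ := Ideal.exists_le_maximal I hI
    obtain ⟨j, q, hq, hqm⟩ := hsurj m hm.isPrime
    -- `B j ⊗ (M ⧸ M')` is trivial
    let g : B j ⊗[A] M →ₗ[B j] B j ⊗[A] (M ⧸ M') :=
      TensorProduct.AlgebraTensorModule.map (LinearMap.id : B j →ₗ[B j] B j) M'.mkQ
    have hg : ∀ (b : B j) (m₀ : M), g (b ⊗ₜ[A] m₀) = b ⊗ₜ[A] (M'.mkQ m₀) := fun b m₀ =>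
      TensorProduct.AlgebraTensorModule.map_tmul _ _ _ _
    have hg0 : g = 0 := by
      refine LinearMap.ext_on (ht j) ?_
      rintro _ ⟨m₀, hm₀, rfl⟩
      have hz : M'.mkQ m₀ = 0 :=
        (Submodule.Quotient.mk_eq_zero M').mpr (hM'def ▸ hT j m₀ (Finset.mem_coe.mp hm₀))
      rw [TensorProduct.mk_apply, hg, hz, TensorProduct.tmul_zero, LinearMap.zero_apply]
    have hsub : Subsingleton (B j ⊗[A] (M ⧸ M')) := by
      have h0 : ∀ z : B j ⊗[A] (M ⧸ M'), z = 0 := by
        intro z
        induction z using TensorProduct.induction_on with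
        | zero => rfl
        | tmul b q' =>
          obtain ⟨m₀, rfl⟩ := M'.mkQ_surjective q'
          rw [← hg, hg0, LinearMap.zero_apply]
        | add z w hz hw => rw [hz, hw, add_zero]
      exact ⟨fun a b => by rw [h0 a, h0 b]⟩
    -- the cyclic submodule generated by the class of `x`
    let inc : A ⧸ I →ₗ[A] M ⧸ M' :=
      Submodule.liftQ I (LinearMap.toSpanSingleton A (M ⧸ M') (M'.mkQ x)) (le_of_eq hIdef)
    have hinc : Function.Injective inc := by
      rw [← LinearMap.ker_eq_bot]
      exact Submodule.ker_liftQ_eq_bot _ _ _ (le_of_eq hIdef.symm)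
    have hsub2 : Subsingleton (B j ⊗[A] (A ⧸ I)) :=
      (Module.Flat.lTensor_preserves_injective_linearMap (M := B j) inc hinc).subsingleton
    have hsub3 : Subsingleton (B j ⧸ (I • (⊤ : Submodule A (B j)))) :=
      (TensorProduct.tensorQuotEquivQuotSMul (B j) I).symm.injective.subsingleton
    rw [Submodule.Quotient.subsingleton_iff] at hsub3
    have hle : I • (⊤ : Submodule A (B j)) ≤ q.restrictScalars A := by
      rw [Submodule.smul_le]
      intro a ha b _
      have hmem : algebraMap A (B j) a ∈ q := by
        have : a ∈ q.comap (algebraMap A (B j)) := by rw [hqm]; exact hIm ha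
        exact this
      rw [Submodule.restrictScalars_mem, Algebra.smul_def]
      exact q.mul_mem_right b hmem
    have h1q : (1 : B j) ∈ q := hle (by rw [hsub3]; trivial)
    exact hq.ne_top ((Ideal.eq_top_iff_one q).mpr h1q)
  exact ⟨⟨T, hM'⟩⟩

/-- the fibre rank at the closed point is invariant under base change along a local homomorphism
of local rings. -/
theorem finrank_residue_isBaseChange {A B : Type u} [CommRing A] [CommRing B] [IsLocalRing A]
    [IsLocalRing B] [Algebra A B] [IsLocalHom (algebraMap A B)]
    {M N : Type u} [AddCommGroup M] [AddCommGroup N] [Module A M] [Module A N] [Module B N]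
    [IsScalarTower A B N] (σ : M →ₗ[A] N) (hσ : IsBaseChange B σ) :
    Module.finrank (IsLocalRing.ResidueField B) (IsLocalRing.ResidueField B ⊗[B] N) =
      Module.finrank (IsLocalRing.ResidueField A) (IsLocalRing.ResidueField A ⊗[A] M) := by
  let e1 : IsLocalRing.ResidueField B ⊗[B] (B ⊗[A] M) ≃ₗ[IsLocalRing.ResidueField B]
      IsLocalRing.ResidueField B ⊗[B] N :=
    TensorProduct.AlgebraTensorModule.congr
      (LinearEquiv.refl (IsLocalRing.ResidueField B) (IsLocalRing.ResidueField B)) hσ.equiv
  let e2 : IsLocalRing.ResidueField B ⊗[B] (B ⊗[A] M) ≃ₗ[IsLocalRing.ResidueField B]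
      IsLocalRing.ResidueField B ⊗[A] M :=
    TensorProduct.AlgebraTensorModule.cancelBaseChange A B (IsLocalRing.ResidueField B)
      (IsLocalRing.ResidueField B) M
  let e3 : IsLocalRing.ResidueField B ⊗[IsLocalRing.ResidueField A]
      (IsLocalRing.ResidueField A ⊗[A] M) ≃ₗ[IsLocalRing.ResidueField B]
      IsLocalRing.ResidueField B ⊗[A] M :=
    TensorProduct.AlgebraTensorModule.cancelBaseChange A (IsLocalRing.ResidueField A)
      (IsLocalRing.ResidueField B) (IsLocalRing.ResidueField B) M
  have h1 := (e1.symm ≪≫ₗ e2 ≪≫ₗ e3.symm).finrank_eq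
  rw [h1]
  exact Module.finrank_baseChange

/-- the dimension of the fibre is bounded by the number of generators. -/
theorem finrank_tensor_le_card {A : Type*} [CommRing A] (K : Type*) [Field K] [Algebra A K]
    {M : Type*} [AddCommGroup M] [Module A M] {I : Type*} [Finite I] (s : I → M)
    (hs : Submodule.span A (Set.range s) = ⊤) :
    Module.finrank K (K ⊗[A] M) ≤ Nat.card I := by
  classical
  cases nonempty_fintype I
  have h1 : Submodule.span K (Set.range fun i => (1 : K) ⊗ₜ[A] s i) = ⊤ := by
    have h := Submodule.baseChange_span (R := A) (A := K) (Set.range s)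
    rw [hs, Submodule.baseChange_top, ← Set.range_comp] at h
    exact h.symm
  have h2 := finrank_range_le_card (R := K) (fun i => (1 : K) ⊗ₜ[A] s i)
  rw [Set.finrank, h1, finrank_top] at h2
  rw [Nat.card_eq_fintype_card]
  exact h2

end Groth.Agent.H3.LocGen
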