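import Groth.Agent.Lib.Lead.QC.RankRed
import Groth.Agent.Lib.Lead.QC.StalkPullback
import Groth.Agent.Lib.Lead.QC.PullbackUnit
import Groth.Agent.Lib.Helper3.LocGen.A
import Mathlib.AlgebraicGeometry.Sites.Fpqc

/-!
# fpqc descent of "locally generated by at most `r` sections" (helper3)

* `finite_sections_of_fpqc`: finiteness of sections over affine opens descends along an fpqc family.
* `exists_point_of_fpqc`: an fpqc family is jointly surjective.
* `exists_span_of_generatingSections_affine`, `fibreRank_le_of_lgd`: the fibre rank is bounded by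
  the number of local generators.
* `fibreRank_pullback`: the fibre rank is invariant under pullback.
* `exists_gen_of_span_affine`: generating sections with a prescribed number of generators.
* `main`: the descent statement.
-/

set_option autoImplicit false
universe u
open CategoryTheory CategoryTheory.Limits AlgebraicGeometry Opposite TopologicalSpace TensorProduct
open Groth.Agent.LD.QC

namespace Groth.Agent.H3.LocGen

section Cover
variable {ι : Type u} {X : Scheme.{u}} {Xi : ι → Scheme.{u}} (f : ∀ i, Xi i ⟶ X)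

set_option backward.isDefEq.respectTransparency.types false in
/-- an fpqc family is jointly surjective. -/
theorem exists_point_of_fpqc (hf : Presieve.ofArrows Xi f ∈ Scheme.fpqcPrecoverage X) (x : X) :
    ∃ (i : ι) (x' : Xi i), f i x' = x := by
  let 𝒰 : PreZeroHypercover.{u} X := ⟨ι, Xi, f⟩
  have hf' : 𝒰.presieve₀ ∈ Scheme.fpqcPrecoverage X := hf
  have hqc : QuasiCompactCover 𝒰 := Scheme.presieve₀_mem_qcPrecoverage_iff.mp hf'.1
  obtain ⟨V, hV, hxV, -⟩ := exists_isAffineOpen_mem_and_subset (x := x) (U := ⊤) trivial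
  obtain ⟨n, a, W, hW, hcov⟩ := QuasiCompactCover.exists_isAffineOpen_of_isCompact 𝒰 hV.isCompact
  have hx : x ∈ ⋃ i, 𝒰.f (a i) '' (W i : Set _) := by rw [hcov]; exact hxV
  obtain ⟨k, w, -, hw⟩ := Set.mem_iUnion.mp hx
  exact ⟨a k, w, hw⟩

set_option backward.isDefEq.respectTransparency.types false in
/-- finiteness of the sections over an affine open descends along an fpqc family. -/
theorem finite_sections_of_fpqc (hf : Presieve.ofArrows Xi f ∈ Scheme.fpqcPrecoverage X)
    (F : X.Modules) [F.IsQuasicoherent]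
    (h : ∀ i, ((Scheme.Modules.pullback (f i)).obj F).IsFiniteType)
    {V : X.Opens} (hV : IsAffineOpen V) : Module.Finite Γ(X, V) Γ(F, V) := by
  let 𝒰 : PreZeroHypercover.{u} X := ⟨ι, Xi, f⟩
  have hf' : 𝒰.presieve₀ ∈ Scheme.fpqcPrecoverage X := hf
  have hqc : QuasiCompactCover 𝒰 := Scheme.presieve₀_mem_qcPrecoverage_iff.mp hf'.1
  have hfl : ∀ i, Flat (f i) := fun i => hf'.2.2 ⟨i⟩
  obtain ⟨n, a, W, hW, hcov⟩ := QuasiCompactCover.exists_isAffineOpen_of_isCompact 𝒰 hV.isCompact
  have hle : ∀ k, W k ≤ (f (a k)) ⁻¹ᵁ V := fun k w hw => by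
    have hx : (f (a k)) w ∈ ⋃ i, 𝒰.f (a i) '' (W i : Set _) :=
      Set.mem_iUnion.mpr ⟨k, w, hw, rfl⟩
    rw [hcov] at hx
    exact hx
  letI alg : ∀ k, Algebra Γ(X, V) Γ(Xi (a k), W k) := fun k =>
    ((f (a k)).appLE V (W k) (hle k)).hom.toAlgebra
  haveI flat : ∀ k, Module.Flat Γ(X, V) Γ(Xi (a k), W k) := fun k => by
    have hfk : ((f (a k)).appLE V (W k) (hle k)).hom.Flat :=
      HasRingHomProperty.appLE (P := @Flat) (f (a k)) (hfl (a k)) ⟨V, hV⟩ ⟨W k, hW k⟩ (hle k)
    exact hfk
  refine finite_of_flat_family' (A := Γ(X, V)) (M := Γ(F, V)) (J := Fin n)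
    (fun k => (Γ(Xi (a k), W k) : Type u)) ?_ ?_
  · intro p hp
    let P : PrimeSpectrum Γ(X, V) := ⟨p, hp⟩
    have hxV : hV.fromSpec P ∈ V := by
      have h0 : hV.fromSpec P ∈ hV.fromSpec.opensRange := ⟨P, rfl⟩
      rwa [hV.opensRange_fromSpec] at h0
    have hx : hV.fromSpec P ∈ ⋃ i, 𝒰.f (a i) '' (W i : Set _) := by rw [hcov]; exact hxV
    obtain ⟨k, w, hw, hwx⟩ := Set.mem_iUnion.mp hx
    have hwr : w ∈ (hW k).fromSpec.opensRange := by
      rw [(hW k).opensRange_fromSpec]; exact hw
    obtain ⟨q, hq⟩ := hwr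
    refine ⟨k, q.asIdeal, q.isPrime, ?_⟩
    have hsq := hV.SpecMap_appLE_fromSpec (f (a k)) (hW k) (hle k)
    have h1 : hV.fromSpec ((Spec.map ((f (a k)).appLE V (W k) (hle k))) q) = hV.fromSpec P := by
      have h2 : (Spec.map ((f (a k)).appLE V (W k) (hle k)) ≫ hV.fromSpec) q =
          ((hW k).fromSpec ≫ f (a k)) q := by rw [hsq]
      have h3 : ((hW k).fromSpec ≫ f (a k)) q = f (a k) ((hW k).fromSpec q) := rfl
      rw [h3, hq] at h2
      exact h2.trans hwx
    have h4 : (Spec.map ((f (a k)).appLE V (W k) (hle k))) q = P :=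
      hV.fromSpec.isOpenEmbedding.injective h1
    exact congrArg PrimeSpectrum.asIdeal h4
  · intro k
    haveI := qc_pullback (f (a k)) F
    obtain ⟨Φ, -⟩ := exists_pullback_sections_equiv_pbSec (f (a k)) (hW k) hV (hle k) F
    haveI : Module.Finite Γ(Xi (a k), W k) Γ((Scheme.Modules.pullback (f (a k))).obj F, W k) :=
      finite_sections_of_isFiniteType _ (h (a k)) (hW k)
    exact Module.Finite.equiv Φ

end Cover

section Gen
variable {X : Scheme.{u}}

/-- generating sections over an affine open give a spanning family of sections with the same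
index type. -/
theorem exists_span_of_generatingSections_affine (M : X.Modules) (hM : M.IsQuasicoherent)
    {U : X.Opens} (hU : IsAffineOpen U) (σ : (M.restrict U.ι).GeneratingSections) :
    ∃ s : σ.I → Γ(M, U), Submodule.span Γ(X, U) (Set.range s) = ⊤ := by
  have key : ∃ G : (σ.I →₀ Γ(X, U)) →ₗ[Γ(X, U)] Γ(M, U), Function.Surjective G := by
    let τ := genOfLE M U.ι hU.fromSpec (range_fromSpec_subset_range_ι hU) σ
    have h0 : @Epi (Spec Γ(X, U)).Modules _ _ _ τ.π := τ.epi
    have h1 : Epi (moduleSpecΓFunctor.map τ.π) := spec_epi_Γ inferInstance inferInstance τ.π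
    have h2 : Epi ((specΓFreeIso τ.I).hom ≫ moduleSpecΓFunctor.map τ.π) := epi_comp _ _
    have hg : Function.Surjective ((specΓFreeIso τ.I).hom ≫ moduleSpecΓFunctor.map τ.π).hom :=
      (ModuleCat.epi_iff_surjective _).mp h2
    exact ⟨(affineΓEquiv M hU).toLinearMap ∘ₗ
      ((specΓFreeIso τ.I).hom ≫ moduleSpecΓFunctor.map τ.π).hom,
      (affineΓEquiv M hU).surjective.comp hg⟩
  obtain ⟨G, hG⟩ := key
  refine ⟨fun i => G (Finsupp.single i 1), ?_⟩
  have hGeq : G = Finsupp.linearCombination Γ(X, U) (fun i => G (Finsupp.single i 1)) := by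
    refine Finsupp.lhom_ext' fun i => LinearMap.ext_ring ?_
    simp
  rw [← Finsupp.range_linearCombination, ← hGeq, LinearMap.range_eq_top]
  exact hG

/-- the fibre rank is bounded by the number of spanning sections over an affine open. -/
theorem fibreRank_le_of_span (M : X.Modules) [M.IsQuasicoherent] {U : X.Opens}
    (hU : IsAffineOpen U) {I : Type u} [Finite I] (s : I → Γ(M, U))
    (hs : Submodule.span Γ(X, U) (Set.range s) = ⊤) (y : X) (hy : y ∈ U) :
    fibreRank M y ≤ Nat.card I := by
  rw [fibreRank_eq_finrank_residueField M hU y hy]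
  exact finrank_tensor_le_card _ s hs

/-- the fibre rank is bounded by the number of generating sections over an open neighbourhood. -/
theorem fibreRank_le_of_gen (M : X.Modules) [M.IsQuasicoherent] (W : X.Opens)
    (τ₀ : (M.restrict W.ι).GeneratingSections) [hfin : Finite τ₀.I] (y : X) (hy : y ∈ W) :
    fibreRank M y ≤ Nat.card τ₀.I := by
  obtain ⟨U, hU, hyU, hUW⟩ := exists_isAffineOpen_mem_and_subset (x := y) (U := W) hy
  have hr : Set.range U.ι ⊆ Set.range W.ι := by
    rw [Scheme.Opens.range_ι, Scheme.Opens.range_ι]; exact hUW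
  haveI : Finite (genOfLE M W.ι U.ι hr τ₀).I := hfin
  obtain ⟨s, hs⟩ := exists_span_of_generatingSections_affine M inferInstance hU
    (genOfLE M W.ι U.ι hr τ₀)
  exact fibreRank_le_of_span M hU s hs y hyU

/-- the fibre rank is bounded by the number of local generators. -/
theorem fibreRank_le_of_lgd (M : X.Modules) [M.IsQuasicoherent]
    (σ : SheafOfModules.LocalGeneratorsData.{u} (R := X.ringCatSheaf) M) (r : ℕ)
    (hσ : ∀ k, Finite (σ.generators k).I ∧ Nat.card (σ.generators k).I ≤ r) (y : X) :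
    fibreRank M y ≤ r := by
  have hc : IsOpenCover σ.X := (Opens.coversTop_iff _ _).mp σ.coversTop
  have hy : y ∈ ⨆ i, σ.X i := by rw [hc]; trivial
  obtain ⟨k, hk⟩ := Opens.mem_iSup.mp hy
  haveI : Finite (genRestrict M (σ.X k) (σ.generators k)).I := (hσ k).1
  exact (fibreRank_le_of_gen M (σ.X k) (genRestrict M (σ.X k) (σ.generators k)) y hk).trans
    (hσ k).2

end Gen

section Pullback
variable {X Y : Scheme.{u}}

set_option maxHeartbeats 1600000 in
/-- the fibre rank is invariant under pullback. -/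
theorem fibreRank_pullback (f : Y ⟶ X) (F : X.Modules) [F.IsQuasicoherent] (y : Y) :
    fibreRank ((Scheme.Modules.pullback f).obj F) y = fibreRank F (f y) := by
  letI algAB : Algebra (X.presheaf.stalk (f y)) (Y.presheaf.stalk y) :=
    (f.stalkMap y).hom.toAlgebra
  letI mAT : Module (X.presheaf.stalk (f y))
      (((Scheme.Modules.pullback f).obj F).presheaf.stalk y) :=
    stalkModuleOver f ((Scheme.Modules.pullback f).obj F) y
  haveI tABT : IsScalarTower (X.presheaf.stalk (f y)) (Y.presheaf.stalk y)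
      (((Scheme.Modules.pullback f).obj F).presheaf.stalk y) :=
    IsScalarTower.of_algebraMap_smul fun r m => rfl
  obtain ⟨σ, hσ⟩ := exists_stalk_pullback_isBaseChange f F y
  haveI : IsLocalHom (algebraMap (X.presheaf.stalk (f y)) (Y.presheaf.stalk y)) :=
    inferInstanceAs (IsLocalHom (f.stalkMap y).hom)
  exact finrank_residue_isBaseChange σ hσ

end Pullback

section Count
variable {X : Scheme.{u}}

/-- generating sections of `tilde M` from a spanning family indexed by `Fin n`. -/
theorem spec_gen_of_span {R : CommRingCat.{u}} (M : ModuleCat.{u} R) (n : ℕ) (s : Fin n → M)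
    (hs : Submodule.span R (Set.range s) = ⊤) :
    ∃ σ : (tilde M).GeneratingSections, Finite σ.I ∧ Nat.card σ.I = n := by
  let I : Type u := ULift.{u} (Fin n)
  let g : (I →₀ R) →ₗ[R] M := Finsupp.linearCombination R (fun i : I => s i.down)
  have hg : Function.Surjective g := by
    rw [← LinearMap.range_eq_top, Finsupp.range_linearCombination, eq_top_iff, ← hs]
    apply Submodule.span_mono
    rintro _ ⟨i, rfl⟩
    exact ⟨⟨i⟩, rfl⟩
  have h1 : Epi (ModuleCat.ofHom g) := (ModuleCat.epi_iff_surjective _).mpr hg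
  have h2 : @Epi (Spec R).Modules _ _ _ ((tilde.functor R).map (ModuleCat.ofHom g)) :=
    (tilde.functor R).map_epi _
  let π : SheafOfModules.free (R := (Spec R).ringCatSheaf) I ⟶ tilde M :=
    (tildeFinsupp I).inv ≫ (tilde.functor R).map (ModuleCat.ofHom g)
  have h3 : @Epi (Spec R).Modules _ _ _ π :=
    @epi_comp (Spec R).Modules _ _ _ _ (tildeFinsupp I).inv inferInstance
      ((tilde.functor R).map (ModuleCat.ofHom g)) h2
  refine ⟨genOfEpi π h3, inferInstanceAs (Finite (ULift.{u} (Fin n))), ?_⟩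
  show Nat.card (ULift.{u} (Fin n)) = n
  rw [Nat.card_ulift, Nat.card_fin]

/-- generating sections of a quasi-coherent module on `Spec R` from a spanning family of global
sections indexed by `Fin n`. -/
theorem spec_gen_of_span' {R : CommRingCat.{u}} (N : (Spec R).Modules) [N.IsQuasicoherent]
    (n : ℕ) (s : Fin n → Γ(N, ⊤)) (hs : Submodule.span R (Set.range s) = ⊤) :
    ∃ σ : N.GeneratingSections, Finite σ.I ∧ Nat.card σ.I = n := by
  obtain ⟨σ, hσ, hn⟩ :=
    spec_gen_of_span ((modulesSpecToSheaf.obj N).presheaf.obj (.op ⊤)) n s hs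
  have hiso : IsIso N.fromTildeΓ := inferInstance
  have hepi : @Epi (SheafOfModules (Spec R).ringCatSheaf) _ _ _ N.fromTildeΓ :=
    @IsIso.epi_of_iso (Spec R).Modules _ _ _ N.fromTildeΓ hiso
  exact ⟨σ.ofEpi N.fromTildeΓ, hσ, hn⟩

/-- generating sections over an affine open from a spanning family of sections indexed by
`Fin n`. -/
theorem exists_gen_of_span_affine (M : X.Modules) [M.IsQuasicoherent] {U : X.Opens}
    (hU : IsAffineOpen U) (n : ℕ) (s : Fin n → Γ(M, U))
    (hs : Submodule.span Γ(X, U) (Set.range s) = ⊤) :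
    ∃ σ : (M.restrict U.ι).GeneratingSections, Finite σ.I ∧ Nat.card σ.I = n := by
  have hs' : Submodule.span Γ(X, U)
      (Set.range fun i => (affineΓEquiv M hU).symm (s i)) = ⊤ := by
    have h := Submodule.map_span (affineΓEquiv M hU).symm.toLinearMap (Set.range s)
    rw [hs, Submodule.map_top, LinearMap.range_eq_top.mpr (affineΓEquiv M hU).symm.surjective,
      ← Set.range_comp] at h
    exact h.symm
  obtain ⟨σ, hσ, hn⟩ := spec_gen_of_span' (R := Γ(X, U)) (M.restrict hU.fromSpec) n _ hs'
  exact ⟨genOfLE M hU.fromSpec U.ι (range_ι_subset_range_fromSpec hU) σ, hσ, hn⟩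

end Count

section Main
variable {ι : Type u} {X : Scheme.{u}} {Xi : ι → Scheme.{u}} (f : ∀ i, Xi i ⟶ X)

/-- **fpqc descent of "locally generated by at most `r` sections"** for quasi-coherent modules. -/
theorem main (hf : Presieve.ofArrows Xi f ∈ Scheme.fpqcPrecoverage X) (F : X.Modules)
    [F.IsQuasicoherent] (r : ℕ)
    (h : ∀ i, ∃ σ : SheafOfModules.LocalGeneratorsData.{u} (R := (Xi i).ringCatSheaf)
        ((Scheme.Modules.pullback (f i)).obj F),
      ∀ k, Finite (σ.generators k).I ∧ Nat.card (σ.generators k).I ≤ r) :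
    ∃ σ : SheafOfModules.LocalGeneratorsData.{u} (R := X.ringCatSheaf) F,
      ∀ k, Finite (σ.generators k).I ∧ Nat.card (σ.generators k).I ≤ r := by
  have hft : ∀ i, ((Scheme.Modules.pullback (f i)).obj F).IsFiniteType := fun i => by
    obtain ⟨σ, hσ⟩ := h i
    have hq : σ.IsFiniteType := { isFiniteType := fun k => { finite := (hσ k).1 } }
    exact SheafOfModules.IsFiniteType.mk.{u, u, u} ⟨σ, hq⟩
  have hF : F.IsFiniteType := by
    rw [isFiniteType_iff_finite_sections]
    intro V hV
    exact finite_sections_of_fpqc f hf F hft hV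
  have hrk : ∀ x : X, fibreRank F x ≤ r := fun x => by
    obtain ⟨i, x', rfl⟩ := exists_point_of_fpqc f hf x
    haveI := qc_pullback (f i) F
    obtain ⟨σ, hσ⟩ := h i
    rw [← fibreRank_pullback (f i) F x']
    exact fibreRank_le_of_lgd _ σ r hσ x'
  have key : ∀ x : X, ∃ (U : X.Opens), x ∈ U ∧
      ∃ σ : (F.restrict U.ι).GeneratingSections, Finite σ.I ∧ Nat.card σ.I ≤ r := fun x => by
    obtain ⟨U₀, hU₀, hxU₀, -⟩ := exists_isAffineOpen_mem_and_subset (x := x) (U := ⊤) trivial
    obtain ⟨a, hxa, ψ, hψ⟩ := exists_basicOpen_surjection F hF hU₀ x hxU₀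
    have hD : IsAffineOpen (X.basicOpen a) := hU₀.basicOpen a
    obtain ⟨σ, hσ, hn⟩ := exists_gen_of_span_affine F hD (fibreRank F x)
      (fun i => ψ (fun j => if i = j then 1 else 0)) (by
        rw [eq_top_iff]
        rintro t -
        obtain ⟨c, rfl⟩ := hψ t
        rw [LinearMap.pi_apply_eq_sum_univ ψ c]
        refine Submodule.sum_mem _ fun i _ => ?_
        exact Submodule.smul_mem _ _ (Submodule.subset_span ⟨i, rfl⟩))
    exact ⟨X.basicOpen a, hxa, σ, hσ, hn.trans_le (hrk x)⟩
  choose U hxU σ hσ using key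
  have hc : (Opens.grothendieckTopology X).CoversTop U := by
    rw [Opens.coversTop_iff, IsOpenCover, eq_top_iff]
    intro x _
    exact Opens.mem_iSup.mpr ⟨x, hxU x⟩
  refine ⟨{ I := X
            X := U
            coversTop := hc
            generators := fun x => genOver F (U x) (σ x) }, fun x => ?_⟩
  exact hσ x

end Main

end Groth.Agent.H3.LocGen
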